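import Groth.Agent.HenselLib.WEtField
import Groth.Agent.S6333
import Groth.Agent.DimLib.Points
import Groth.Agent.SGA3cLib.ArtinComponent
import Groth.Agent.Stk19b.LocIm.SpaceRG

/-!
# The etale scheme of connected components of a scheme locally of finite type over a field
-/

set_option autoImplicit false
set_option linter.style.haveILetI false
set_option backward.isDefEq.respectTransparency.types false
set_option maxHeartbeats 800000

universe u

open CategoryTheory CategoryTheory.Limits AlgebraicGeometry Opposite TopologicalSpace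

namespace Groth.Agent.Pi0H2

open HenselLib

/-- The largest etale subalgebra of a connected algebra mapping to a finitely generated field is a finite field. -/
theorem exists_etale_max {k Γ : Type u} [Field k] [CommRing Γ] [Algebra k Γ] [Nontrivial Γ]
    (hconn : ∀ e : Γ, IsIdempotentElem e → e = 0 ∨ e = 1) {L : Type u} [Field L] [Algebra k L]
    [Algebra.EssFiniteType k L] (χ : Γ →ₐ[k] L) :
    ∃ B : Subalgebra k Γ, IsField B ∧ Module.Finite k B ∧ Algebra.Etale k B ∧
      ∀ (K : Type u) [CommRing K] [Algebra k K], Algebra.Etale k K → ∀ φ : K →ₐ[k] Γ, φ.range ≤ B := by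
  let B := EtAlgD.maxWeaklyEtale k Γ
  haveI hW : Algebra.WeaklyEtale k B := WEt.weaklyEtale_max
  have hfield : IsField B := by
    refine ⟨⟨0, 1, zero_ne_one⟩, mul_comm, fun {x} hx => ?_⟩
    obtain ⟨a, ha⟩ := (WEt.vnr_of_weaklyEtale (A := k) (B := B) (WEt.vnr_field k)) x
    have he : IsIdempotentElem ((x * a : B) : Γ) := by
      refine congrArg Subtype.val (?_ : (x * a) * (x * a) = x * a)
      calc (x * a) * (x * a) = x * x * a * a := by ring
        _ = x * a := by rw [← ha]
    rcases hconn _ he with h | h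
    · refine absurd ?_ hx
      have h' : x * a = 0 := Subtype.ext h
      rw [ha, mul_assoc, h', mul_zero]
    · exact ⟨a, Subtype.ext h⟩
  haveI : Algebra.IsIntegral k B := WEt.isIntegral_of_weaklyEtale
  haveI hfin : Module.Finite k B := by
    haveI : FiniteDimensional k (algebraicClosure k L) := S6333.result (IntermediateField.fg_top k L)
    letI := hfield.toField
    let g : B →ₐ[k] L := χ.comp B.val
    have hg : ∀ b, g b ∈ algebraicClosure k L := fun b =>
      mem_algebraicClosure_iff.mpr ((Algebra.IsIntegral.isIntegral b).map g).isAlgebraic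
    let Φ : B →ₗ[k] algebraicClosure k L :=
      { toFun := fun b => ⟨g b, hg b⟩
        map_add' := fun a b => Subtype.ext (map_add g a b)
        map_smul' := fun c a => Subtype.ext (map_smul g c a) }
    exact Module.Finite.of_injective Φ fun a b hab => g.toRingHom.injective (congrArg Subtype.val hab)
  refine ⟨B, hfield, hfin, ?_, fun K _ _ hK φ => ?_⟩
  · have h := WEt.etFG_of_weaklyEtale (K := k) (B := B) ⊤ (inferInstance : Algebra.FiniteType k B).out
    exact Algebra.Etale.of_equiv Subalgebra.topEquiv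
  · haveI := hK
    haveI := WEt.weaklyEtale_range (K := k) φ
    exact WEt.le_maxWeaklyEtale φ.range

theorem idempotent_trivial (Z : Scheme.{u}) [ConnectedSpace Z] (e : Γ(Z, ⊤)) (he : IsIdempotentElem e) :
    e = 0 ∨ e = 1 := by
  have h1 : Z.basicOpen e ⊔ Z.basicOpen (1 - e) = ⊤ := by
    refine top_le_iff.1 fun z _ => ?_
    by_contra hz
    simp only [TopologicalSpace.Opens.mem_sup, not_or] at hz
    rw [Scheme.mem_basicOpen'' _ e z, Scheme.mem_basicOpen'' _ (1 - e) z] at hz
    obtain ⟨hz1, hnu⟩ := hz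
    refine (IsLocalRing.isUnit_or_isUnit_one_sub_self (Z.presheaf.germ ⊤ z trivial e)).elim
      (fun h => hz1 ⟨trivial, h⟩) fun h => hnu ⟨trivial, ?_⟩
    rwa [map_sub, map_one]
  have h2 : Z.basicOpen e ⊓ Z.basicOpen (1 - e) = ⊥ := by
    rw [← Scheme.basicOpen_mul, he.mul_one_sub_self, Scheme.basicOpen_zero]
  have hclo : IsClopen (Z.basicOpen e : Set Z) := by
    refine ⟨?_, (Z.basicOpen e).isOpen⟩
    have hc : (Z.basicOpen e : Set Z) = (Z.basicOpen (1 - e) : Set Z)ᶜ := by
      ext z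
      constructor
      · intro hz hz'
        exact (h2.le ⟨hz, hz'⟩ : z ∈ (⊥ : Z.Opens))
      · intro hz
        exact (h1.ge (trivial : z ∈ (⊤ : Z.Opens))).resolve_right hz
    rw [hc]
    exact (Z.basicOpen (1 - e)).isOpen.isClosed_compl
  have hunit : ∀ a : Γ(Z, ⊤), Z.basicOpen a = ⊤ → IsUnit a := fun a ha => by
    refine Z.toRingedSpace.isUnit_of_isUnit_germ ⊤ a fun z hz => ?_
    obtain ⟨_, h⟩ := (Scheme.mem_basicOpen'' _ a z).1 (ha.ge (trivial : z ∈ (⊤ : Z.Opens)))
    exact h
  rcases isClopen_iff.1 hclo with h | h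
  · left
    have hb : Z.basicOpen (1 - e) = ⊤ := by
      have h3 := h1
      rw [show Z.basicOpen e = ⊥ from SetLike.coe_injective h, bot_sup_eq] at h3
      exact h3
    exact (hunit _ hb).mul_left_eq_zero.1 he.mul_one_sub_self
  · right
    have hb : Z.basicOpen e = ⊤ := SetLike.coe_injective h
    exact (hunit _ hb).mul_left_cancel (he.eq.trans (mul_one e).symm)

variable {k : Type u} [Field k]

/-- The structure map on functions. -/
noncomputable def strHom {Z : Scheme.{u}} (a : Z ⟶ Spec (CommRingCat.of k)) : k →+* Γ(Z, ⊤) :=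
  ((Scheme.ΓSpecIso (CommRingCat.of k)).inv ≫ a.appTop).hom

theorem strHom_comp {Z W : Scheme.{u}} (a : Z ⟶ Spec (CommRingCat.of k)) (b : W ⟶ Z) :
    strHom (b ≫ a) = b.appTop.hom.comp (strHom a) := by
  simp only [strHom, Scheme.Hom.comp_appTop]
  rfl

theorem toSpecΓ_strHom {Z : Scheme.{u}} (a : Z ⟶ Spec (CommRingCat.of k)) :
    Z.toSpecΓ ≫ Spec.map (CommRingCat.ofHom (strHom a)) = a := by
  rw [strHom, CommRingCat.ofHom_hom, Spec.map_comp, ← Scheme.toSpecΓ_naturality_assoc]
  simp

/-- The local datum on a connected scheme: a point scheme through which all maps to etale schemes factor uniquely. -/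
theorem exists_pi0_connected {Z : Scheme.{u}} (a : Z ⟶ Spec (CommRingCat.of k)) [LocallyOfFiniteType a]
    [ConnectedSpace Z] :
    ∃ (P : Scheme.{u}) (g : P ⟶ Spec (CommRingCat.of k)) (q : Z ⟶ P), Etale g ∧ q ≫ g = a ∧ Flat q ∧ Surjective q ∧
      Subsingleton P ∧ ∀ (Y : Scheme.{u}) (gY : Y ⟶ Spec (CommRingCat.of k)) (h : Z ⟶ Y), Etale gY → h ≫ gY = a →
        ∃! t : P ⟶ Y, t ≫ gY = g ∧ q ≫ t = h := by
  obtain ⟨z₀⟩ := (inferInstance : Nonempty Z)
  haveI : Nonempty ((⊤ : Z.Opens).toScheme) := ⟨⟨z₀, trivial⟩⟩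
  haveI : Nontrivial Γ(Z, ⊤) := Scheme.component_nontrivial Z ⊤
  letI : Algebra k Γ(Z, ⊤) := (strHom a).toAlgebra
  obtain ⟨A, φ, j, P₀, hj, hφ, hje, -⟩ := DimLib.exists_chart a z₀
  letI : Algebra k A := φ.toAlgebra
  haveI : Algebra.FiniteType k A := hφ
  haveI := P₀.isPrime
  haveI : Algebra.EssFiniteType k P₀.asIdeal.ResidueField :=
    Algebra.EssFiniteType.comp k A P₀.asIdeal.ResidueField
  let χ : Γ(Z, ⊤) →ₐ[k] P₀.asIdeal.ResidueField :=
    { toRingHom := (algebraMap A P₀.asIdeal.ResidueField).comp (j.appTop ≫ (Scheme.ΓSpecIso A).hom).hom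
      commutes' := fun r => by
        show algebraMap A P₀.asIdeal.ResidueField ((j.appTop ≫ (Scheme.ΓSpecIso A).hom) (strHom a r)) = _
        rw [IsScalarTower.algebraMap_apply k A P₀.asIdeal.ResidueField]
        congr 1
        have h1 : strHom (j ≫ a) = strHom (Spec.map (CommRingCat.ofHom φ)) := by rw [hje]
        rw [strHom_comp] at h1
        show (Scheme.ΓSpecIso A).hom (j.appTop (strHom a r)) = φ r
        refine (congrArg (fun w : k →+* Γ(Spec A, ⊤) => (Scheme.ΓSpecIso A).hom (w r)) h1).trans ?_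
        show ((Scheme.ΓSpecIso (CommRingCat.of k)).inv ≫ (Spec.map (CommRingCat.ofHom φ)).appTop ≫
          (Scheme.ΓSpecIso A).hom) r = φ r
        rw [Scheme.ΓSpecIso_naturality, Iso.inv_hom_id_assoc]
        rfl }
  obtain ⟨B, hfield, hfin, het, hmax⟩ := exists_etale_max (fun e he => idempotent_trivial Z e he) χ
  let incl : CommRingCat.of B ⟶ Γ(Z, ⊤) := CommRingCat.ofHom B.val.toRingHom
  let q : Z ⟶ Spec (CommRingCat.of B) := Z.toSpecΓ ≫ Spec.map incl
  let g : Spec (CommRingCat.of B) ⟶ Spec (CommRingCat.of k) := Spec.map (CommRingCat.ofHom (algebraMap k B))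
  have hqg : q ≫ g = a := by
    show (Z.toSpecΓ ≫ Spec.map incl) ≫ Spec.map _ = a
    rw [Category.assoc, ← Spec.map_comp,
      show CommRingCat.ofHom (algebraMap k B) ≫ incl = CommRingCat.ofHom (strHom a) from rfl, toSpecΓ_strHom]
  haveI : IsArtinianRing B := IsArtinianRing.of_finite k B
  letI := hfield.toField
  haveI hsub : Subsingleton (Spec (CommRingCat.of B)) := inferInstanceAs (Subsingleton (PrimeSpectrum B))
  have hqtop : q.appTop = (Scheme.ΓSpecIso (CommRingCat.of B)).hom ≫ incl := by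
    show (Z.toSpecΓ ≫ Spec.map incl).appTop = _
    rw [Scheme.Hom.comp_appTop, Scheme.toSpecΓ_appTop, Scheme.ΓSpecIso_naturality]
  have hinj : Function.Injective q.appTop := by
    rw [hqtop]
    exact Subtype.val_injective.comp (ConcreteCategory.bijective_of_isIso (Scheme.ΓSpecIso (CommRingCat.of B)).hom).1
  have hcancel : ∀ {W : Scheme.{u}} [IsAffine W] (s s' : Spec (CommRingCat.of B) ⟶ W), q ≫ s = q ≫ s' → s = s' := by
    intro W _ s s' h
    refine ext_of_isAffine (ConcreteCategory.hom_ext _ _ fun r => hinj ?_)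
    exact congr($(h).appTop r)
  refine ⟨_, g, q, ?_, hqg, ?_, ⟨fun y => ⟨z₀, Subsingleton.elim _ _⟩⟩, hsub, fun Y gY h hgY hh => ?_⟩
  · refine (HasRingHomProperty.Spec_iff (P := @Etale)).2 ?_
    exact RingHom.etale_algebraMap.2 het
  · refine IsZariskiLocalAtSource.of_openCover (P := @Flat) Z.affineCover fun i => ?_
    obtain ⟨φ, hφ⟩ := Spec.map_surjective (Z.affineCover.f i ≫ q)
    refine hφ ▸ (HasRingHomProperty.Spec_iff (P := @Flat)).2 ?_
    letI := φ.hom.toAlgebra
    show Module.Flat B _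
    infer_instance
  · haveI := Stk19b.LocIm.discreteTopology_of_etale_field gY
    have hconst : ∀ z : Z, h z = h z₀ := fun z => PreconnectedSpace.constant inferInstance h.continuous
    let V : Y.Opens := ⟨{h z₀}, isOpen_discrete _⟩
    haveI : Subsingleton V.toScheme := ⟨fun x y => Subtype.ext (x.2.trans y.2.symm)⟩
    haveI : DiscreteTopology V.toScheme := inferInstanceAs (DiscreteTopology (V : Set Y))
    haveI : IsAffine V.toScheme := inferInstance
    have hrange : Set.range h ⊆ Set.range V.ι := by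
      rintro _ ⟨z, rfl⟩
      rw [Scheme.Opens.range_ι]
      exact hconst z
    let l : Z ⟶ V.toScheme := IsOpenImmersion.lift V.ι h hrange
    have hl : l ≫ V.ι = h := IsOpenImmersion.lift_fac _ _ _
    letI : Algebra k Γ(V.toScheme, ⊤) := (strHom (V.ι ≫ gY)).toAlgebra
    haveI : Algebra.Etale k Γ(V.toScheme, ⊤) := by
      refine RingHom.etale_algebraMap.1 ?_
      haveI := hgY
      have h1 : (V.ι ≫ gY).appTop.hom.Etale :=
        (HasRingHomProperty.iff_of_isAffine (P := @Etale)).1 inferInstance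
      exact RingHom.Etale.respectsIso.2 _ (Scheme.ΓSpecIso (CommRingCat.of k)).symm.commRingCatIsoToRingEquiv h1
    let ψ₀ : Γ(V.toScheme, ⊤) →ₐ[k] Γ(Z, ⊤) :=
      { toRingHom := l.appTop.hom
        commutes' := fun r => by
          show l.appTop.hom (strHom (V.ι ≫ gY) r) = strHom a r
          have h1 : strHom a = strHom (l ≫ V.ι ≫ gY) := by rw [← Category.assoc, hl, hh]
          rw [h1, strHom_comp]
          rfl }
    let ψ : Γ(V.toScheme, ⊤) →+* B :=
      ψ₀.toRingHom.codRestrict B fun v => hmax _ inferInstance ψ₀ ⟨v, rfl⟩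
    let s : Spec (CommRingCat.of B) ⟶ V.toScheme := Spec.map (CommRingCat.ofHom ψ) ≫ V.toScheme.isoSpec.inv
    have hs : q ≫ s = l := by
      show (Z.toSpecΓ ≫ Spec.map incl) ≫ Spec.map _ ≫ V.toScheme.isoSpec.inv = l
      rw [Category.assoc, ← Spec.map_comp_assoc, show CommRingCat.ofHom ψ ≫ incl = l.appTop from rfl,
        ← Scheme.toSpecΓ_naturality_assoc]
      simp [Scheme.isoSpec]
    refine ⟨s ≫ V.ι, ⟨?_, by rw [← Category.assoc, hs, hl]⟩, fun t ⟨_, ht⟩ => ?_⟩
    · exact hcancel _ _ (by rw [← Category.assoc, ← Category.assoc, hs, hl, hh, hqg])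
    · have htV : Set.range t ⊆ Set.range V.ι := by
        rintro _ ⟨y, rfl⟩
        rw [Scheme.Opens.range_ι, Subsingleton.elim y (q z₀), ← Scheme.Hom.comp_apply, ht]
        exact rfl
      rw [← IsOpenImmersion.lift_fac V.ι t htV]
      congr 1
      refine hcancel _ _ ?_
      rw [hs, ← cancel_mono V.ι, Category.assoc, IsOpenImmersion.lift_fac, ht, hl]

theorem exists_pi0 {X : Scheme.{u}} (f : X ⟶ Spec (CommRingCat.of k)) [LocallyOfFiniteType f] :
    ∃ (P : Scheme.{u}) (g : P ⟶ Spec (CommRingCat.of k)) (q : X ⟶ P), Etale g ∧ q ≫ g = f ∧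
      (∀ (Y : Scheme.{u}) (gY : Y ⟶ Spec (CommRingCat.of k)) (h : X ⟶ Y), Etale gY → h ≫ gY = f →
        ∃! t : P ⟶ Y, t ≫ gY = g ∧ q ≫ t = h) ∧
      Flat q ∧ Surjective q ∧
      ∀ x : ↥X, (fun x' : ↥X => q x') ⁻¹' {q x} = connectedComponent x := by
  haveI : IsLocallyNoetherian X := LocallyOfFiniteType.isLocallyNoetherian f
  let I := _root_.ConnectedComponents X
  let C : I → X.Opens := fun c => ⟨connectedComponent (Quotient.out c), SGA3cLib.isOpen_connectedComponent _⟩
  have hmem : ∀ x : X, x ∈ C (ConnectedComponents.mk x) := fun x => by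
    show x ∈ connectedComponent _
    rw [connectedComponent_eq_iff_mem.2 (ConnectedComponents.coe_eq_coe'.1 (Quotient.out_eq (ConnectedComponents.mk x)))]
    exact mem_connectedComponent
  have huniq : ∀ (c : I) (x : X), x ∈ C c → ConnectedComponents.mk x = c := fun c x hx =>
    (ConnectedComponents.coe_eq_coe'.2 hx).trans (Quotient.out_eq c)
  have hcon : ∀ c, ConnectedSpace (C c).toScheme := fun c => by
    show ConnectedSpace (connectedComponent (Quotient.out c))
    exact isConnected_iff_connectedSpace.1 isConnected_connectedComponent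
  choose P g q hg hqg hqf hqs hsub huniv using fun c =>
    haveI := hcon c
    exists_pi0_connected ((C c).ι ≫ f)
  let 𝒰 : X.OpenCover := X.openCoverOfIsOpenCover C (by
    rw [IsOpenCover, eq_top_iff]
    exact fun x _ => Opens.mem_iSup.2 ⟨_, hmem x⟩)
  let Q : X ⟶ ∐ P := 𝒰.glueMorphisms (fun c => q c ≫ Sigma.ι P c) fun c d => by
    by_cases hcd : c = d
    · subst hcd
      rw [show pullback.fst (𝒰.f c) (𝒰.f c) = pullback.snd (𝒰.f c) (𝒰.f c) from fst_eq_snd_of_mono_eq (𝒰.f c)]
    · haveI : IsEmpty ↥(pullback (𝒰.f c) (𝒰.f d)) := ⟨fun w => hcd (by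
        have h1 : (𝒰.f c) (pullback.fst (𝒰.f c) (𝒰.f d) w) = (𝒰.f d) (pullback.snd (𝒰.f c) (𝒰.f d) w) := by
          rw [← Scheme.Hom.comp_apply, ← Scheme.Hom.comp_apply, pullback.condition]
        exact ((huniq c _ (pullback.fst (𝒰.f c) (𝒰.f d) w).2).symm.trans (congrArg ConnectedComponents.mk h1)).trans
          (huniq d _ (pullback.snd (𝒰.f c) (𝒰.f d) w).2))⟩
      exact (isInitialOfIsEmpty).hom_ext _ _
  have hQ : ∀ c, (C c).ι ≫ Q = q c ≫ Sigma.ι P c := fun c => 𝒰.ι_glueMorphisms _ _ c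
  have hQx : ∀ (c : I) (x : (C c).toScheme), Q ((C c).ι x) = Sigma.ι P c (q c x) := fun c x =>
    congr($(hQ c) x)
  refine ⟨∐ P, Sigma.desc g, Q, ?_, ?_, fun Y gY h hgY hh => ?_, ?_, ⟨fun y => ?_⟩, fun x => ?_⟩
  · refine IsZariskiLocalAtSource.sigmaDesc (P := @Etale) fun c => hg c
  · refine 𝒰.hom_ext _ _ fun c => ?_
    show (C c).ι ≫ Q ≫ Sigma.desc g = (C c).ι ≫ f
    rw [← Category.assoc, hQ, Category.assoc, Sigma.ι_desc, hqg]
  · choose t ht htu using fun c => huniv c Y gY ((C c).ι ≫ h) hgY (by rw [Category.assoc, hh])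
    refine ⟨Sigma.desc t, ⟨?_, ?_⟩, fun t' ⟨h1, h2⟩ => ?_⟩
    · refine Sigma.hom_ext _ _ fun c => ?_
      rw [Sigma.ι_desc_assoc, Sigma.ι_desc, (ht c).1]
    · refine 𝒰.hom_ext _ _ fun c => ?_
      show (C c).ι ≫ Q ≫ Sigma.desc t = (C c).ι ≫ h
      rw [← Category.assoc, hQ, Category.assoc, Sigma.ι_desc, (ht c).2]
    · refine Sigma.hom_ext _ _ fun c => ?_
      rw [Sigma.ι_desc]
      refine htu c _ ⟨?_, ?_⟩
      · rw [Category.assoc, h1, Sigma.ι_desc]
      · rw [← Category.assoc, ← hQ, Category.assoc, h2]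
  · refine IsZariskiLocalAtSource.of_openCover (P := @Flat) 𝒰 fun c => ?_
    show Flat ((C c).ι ≫ Q)
    rw [hQ]
    haveI := hqf c
    infer_instance
  · obtain ⟨⟨c, p⟩, rfl⟩ := (sigmaMk P).surjective y
    haveI := hqs c
    obtain ⟨z, rfl⟩ := (q c).surjective p
    exact ⟨(C c).ι z, by rw [hQx, sigmaMk_mk]⟩
  · ext x'
    simp only [Set.mem_preimage, Set.mem_singleton_iff]
    have e : ∀ w : X, Q w = Sigma.ι P (ConnectedComponents.mk w) (q _ ⟨w, hmem w⟩) := fun w => hQx _ ⟨w, hmem w⟩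
    constructor
    · intro hx
      rw [e, e, sigmaι_eq_iff, Sigma.mk.injEq] at hx
      exact ConnectedComponents.coe_eq_coe'.1 hx.1
    · intro hx
      have hc : ConnectedComponents.mk x' = ConnectedComponents.mk x := ConnectedComponents.coe_eq_coe'.2 hx
      have hx'' : x' ∈ C (ConnectedComponents.mk x) := hc ▸ hmem x'
      rw [show Q x' = Sigma.ι P (ConnectedComponents.mk x) (q _ ⟨x', hx''⟩) from hQx _ ⟨x', hx''⟩, e x]
      haveI := hsub (ConnectedComponents.mk x)
      exact congrArg _ (Subsingleton.elim _ _)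

end Groth.Agent.Pi0H2
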